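import Mathlib
import Cfsg.Agent.Lib.Helper19.KAlt.Defs
import Cfsg.Agent.Lib.Helper75.LW.All

/-!
# KALT (S0747): [RED1] the Sylow case
-/

set_option autoImplicit false

namespace Cfsg.Agent.Lib.Helper11.KAlt

open Cfsg.Agent.Lib.Helper75.LW Cfsg.Agent.Lib.Helper19.KAlt

universe u

variable {α : Type u} [Fintype α] [DecidableEq α]

/-- An element of a `k`-transitive group fixing a `(k-1)`-set pointwise and moving `u` to `v`. -/
theorem exists_move (G : Subgroup (Equiv.Perm α)) (k : ℕ) (hHT : HT G k) (A : Finset α)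
    (hA : A.card + 1 = k) (u v : α) (hu : u ∉ A) (hv : v ∉ A) :
    ∃ g ∈ G, (∀ a ∈ A, g a = a) ∧ g u = v := by
  have hinj : Set.InjOn (fun a => if a = u then v else a) ((insert u A : Finset α) : Set α) := by
    intro a ha b hb hab
    have ha' := Finset.mem_insert.mp (Finset.mem_coe.mp ha)
    have hb' := Finset.mem_insert.mp (Finset.mem_coe.mp hb)
    simp only at hab
    by_cases h1 : a = u <;> by_cases h2 : b = u
    · rw [h1, h2]
    · rw [if_pos h1, if_neg h2] at hab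
      exfalso
      apply hv
      rw [hab]
      exact hb'.resolve_left h2
    · rw [if_neg h1, if_pos h2] at hab
      exfalso
      apply hv
      rw [← hab]
      exact ha'.resolve_left h1
    · rw [if_neg h1, if_neg h2] at hab
      exact hab
  obtain ⟨g, hg, hgφ⟩ := allExt G k (insert u A) (fun a => if a = u then v else a)
    (by rw [Finset.card_insert_of_notMem hu, hA]) hHT hinj
  refine ⟨g, hg, fun a ha => ?_, ?_⟩
  · rw [hgφ a (Finset.mem_insert_of_mem ha), if_neg (fun h => hu (by rw [← h]; exact ha))]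
  · rw [hgφ u (Finset.mem_insert_self u A), if_pos rfl]

/-- An element conjugating `Q` into itself preserves the fixed-point set of `Q`. -/
theorem preserves_of_conj_le {G : Subgroup (Equiv.Perm α)} {k p : ℕ}
    {Q : Subgroup (Equiv.Perm α)} {F : Finset α} (hM : MaxP G k p Q F) (w : Equiv.Perm α)
    (hw : ∀ q ∈ Q, w * q * w⁻¹ ∈ Q) : ∀ a, w a ∈ F ↔ a ∈ F := by
  have h1 : ∀ a, w a ∈ F → a ∈ F := by
    intro a ha
    rw [hM.fix] at ha ⊢
    intro q hq
    have h := ha (w * q * w⁻¹) (hw q hq)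
    have e2 : w⁻¹ (w a) = a := by simp
    simp only [Equiv.Perm.mul_apply, e2] at h
    exact w.injective h
  have h2 : F.image (fun a => w⁻¹ a) ⊆ F := by
    intro b hb
    obtain ⟨a, ha, rfl⟩ := Finset.mem_image.mp hb
    apply h1
    have e1 : w (w⁻¹ a) = a := by simp
    rw [e1]
    exact ha
  have h3 : F.image (fun a => w⁻¹ a) = F :=
    Finset.eq_of_subset_of_card_le h2
      (by rw [Finset.card_image_of_injective _ (w⁻¹).injective])
  intro a
  refine ⟨h1 a, fun ha => ?_⟩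
  rw [← h3] at ha
  obtain ⟨b, hb, hba⟩ := Finset.mem_image.mp ha
  have e1 : w (w⁻¹ b) = b := by simp
  rw [← hba, e1]
  exact hb

/-- [RED1] the Sylow case (Witt) -/
theorem pkgRed1 : PkgRed1.{u} := by
  intro α _ _ G k p Q F hM hHT hmax A hAF hA u v hu hv huA hvA
  classical
  haveI : Fact p.Prime := ⟨hM.prime⟩
  obtain ⟨g₀, hg₀, hg₀A, hg₀u⟩ := exists_move G k hHT A hA u v huA hvA
  obtain ⟨L, hL⟩ : ∃ L : Finset α, L = insert v A := ⟨_, rfl⟩
  have hLcard : L.card = k := by rw [hL, Finset.card_insert_of_notMem hvA, hA]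
  have hLF : ∀ a ∈ L, a ∈ F := by
    intro a ha
    rw [hL] at ha
    rcases Finset.mem_insert.mp ha with h | h
    · rw [h]
      exact hv
    · exact hAF h
  have hQL : Q ≤ PS G L := fun q hq =>
    ⟨hM.le hq, fun a ha => (hM.fix a).mp (hLF a ha) q hq⟩
  have hQ'L : ∀ q ∈ Q, g₀ * q * g₀⁻¹ ∈ PS G L := by
    intro q hq
    refine ⟨G.mul_mem (G.mul_mem hg₀ (hM.le hq)) (G.inv_mem hg₀), fun a ha => ?_⟩
    rw [hL] at ha
    simp only [Equiv.Perm.mul_apply]
    rcases Finset.mem_insert.mp ha with h | h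
    · have e1 : g₀⁻¹ a = u := by
        rw [Equiv.Perm.inv_eq_iff_eq, hg₀u, h]
      rw [e1, (hM.fix u).mp hu q hq, hg₀u, h]
    · have e1 : g₀⁻¹ a = a := by
        rw [Equiv.Perm.inv_eq_iff_eq, hg₀A a h]
      rw [e1, (hM.fix a).mp (hAF h) q hq, hg₀A a h]
  obtain ⟨H, hH⟩ : ∃ H : Subgroup (Equiv.Perm α), H = PS G L := ⟨_, rfl⟩
  rw [← hH] at hQL hQ'L
  obtain ⟨Q', hQ'⟩ : ∃ Q' : Subgroup (Equiv.Perm α),
      Q' = Q.map (MulAut.conj g₀).toMonoidHom := ⟨_, rfl⟩
  have hQ'H : Q' ≤ H := by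
    intro y hy
    rw [hQ'] at hy
    obtain ⟨q, hq, rfl⟩ := Subgroup.mem_map.mp hy
    exact hQ'L q hq
  have hQ'p : IsPGroup p ↥Q' := by
    rw [hQ']
    exact hM.pgrp.map _
  have hQ'card : Nat.card Q' = Nat.card Q := by
    rw [hQ']
    exact Subgroup.card_map_of_injective (MulAut.conj g₀).injective
  -- Sylow subgroups of `H`
  have key : ∀ K : Subgroup (Equiv.Perm α), K ≤ H → IsPGroup p ↥K → Nat.card K = Nat.card Q →
      ∃ P : Sylow p ↥H, K.subgroupOf H = P.1 := by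
    intro K hKH hKp hKc
    obtain ⟨P, hP⟩ := (hKp.comap_subtype (K := H)).exists_le_sylow
    refine ⟨P, Subgroup.eq_of_le_of_card_ge hP ?_⟩
    have h1 : Nat.card (K.subgroupOf H) = Nat.card K :=
      Nat.card_congr (Subgroup.subgroupOfEquivOfLe hKH).toEquiv
    have h2 : Nat.card ((P : Subgroup ↥H).map H.subtype) = Nat.card (P : Subgroup ↥H) :=
      Subgroup.card_map_of_injective H.subtype_injective
    have h3 := hmax L hLcard ((P : Subgroup ↥H).map H.subtype)
      (by rw [← hH]; exact Subgroup.map_subtype_le _) (P.2.map _)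
    rw [h1, hKc, ← h2]
    exact h3
  obtain ⟨P₁, hP₁⟩ := key Q hQL hM.pgrp rfl
  obtain ⟨P₂, hP₂⟩ := key Q' hQ'H hQ'p hQ'card
  obtain ⟨h, hh⟩ := MulAction.exists_smul_eq ↥H P₂ P₁
  have hconj : ∀ q ∈ Q, (h : Equiv.Perm α) * (g₀ * q * g₀⁻¹) * (h : Equiv.Perm α)⁻¹ ∈ Q := by
    intro q hq
    have h1 : (⟨g₀ * q * g₀⁻¹, hQ'L q hq⟩ : ↥H) ∈ (P₂ : Subgroup ↥H) := by
      rw [← hP₂, Subgroup.mem_subgroupOf, hQ']
      exact Subgroup.mem_map.mpr ⟨q, hq, rfl⟩
    have h2 : h * (⟨g₀ * q * g₀⁻¹, hQ'L q hq⟩ : ↥H) * h⁻¹ ∈ (P₁ : Subgroup ↥H) := by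
      rw [← hh, Sylow.coe_subgroup_smul]
      exact Subgroup.smul_mem_pointwise_smul _ (MulAut.conj h) _ h1
    rw [← hP₁, Subgroup.mem_subgroupOf] at h2
    exact h2
  have hhH : (h : Equiv.Perm α) ∈ PS G L := by
    rw [← hH]
    exact h.2
  refine ⟨(h : Equiv.Perm α) * g₀, G.mul_mem hhH.1 hg₀, ?_, ?_, ?_⟩
  · apply preserves_of_conj_le hM
    intro q hq
    have := hconj q hq
    rw [mul_inv_rev]
    simpa only [mul_assoc] using this
  · intro a ha
    rw [Equiv.Perm.mul_apply, hg₀A a ha]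
    exact hhH.2 a (by rw [hL]; exact Finset.mem_insert_of_mem ha)
  · rw [Equiv.Perm.mul_apply, hg₀u]
    exact hhH.2 v (by rw [hL]; exact Finset.mem_insert_self v A)

end Cfsg.Agent.Lib.Helper11.KAlt
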