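import Mathlib
import Cfsg.Agent.Lib.Helper19.KAlt.Defs
import Cfsg.Agent.Lib.Helper75.LW.All
import Cfsg.Agent.Lib.Helper11.KAlt.Red1

/-!
# KALT (S0747): [RED2] the non-Sylow case (orbit lengths mod `p`)
-/

set_option autoImplicit false

namespace Cfsg.Agent.Lib.Helper11.KAlt

open Cfsg.Agent.Lib.Helper75.LW Cfsg.Agent.Lib.Helper19.KAlt

universe u

variable {α : Type u} [Fintype α] [DecidableEq α]

/-- A `p`-subgroup of a `k`-point stabiliser can be moved into any other `k`-point stabiliser. -/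
theorem exists_conj_in_PS (G : Subgroup (Equiv.Perm α)) (k p : ℕ) (hHT : HT G k)
    (L₀ : Finset α) (hL₀ : L₀.card = k) (R : Subgroup (Equiv.Perm α)) (hRL : R ≤ PS G L₀)
    (hRp : IsPGroup p ↥R) (L : Finset α) (hL : L.card = k) :
    ∃ R' : Subgroup (Equiv.Perm α), R' ≤ PS G L ∧ IsPGroup p ↥R' ∧ Nat.card R' = Nat.card R := by
  classical
  obtain ⟨e⟩ : Nonempty (↥L₀ ≃ ↥L) := ⟨Finset.equivOfCardEq (by rw [hL₀, hL])⟩
  obtain ⟨g, hg, hgφ⟩ := allExt G k L₀ (fun a => if h : a ∈ L₀ then (e ⟨a, h⟩ : α) else a) hL₀ hHT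
    (by
      intro a ha b hb hab
      have ha' : a ∈ L₀ := Finset.mem_coe.mp ha
      have hb' : b ∈ L₀ := Finset.mem_coe.mp hb
      simp only [dif_pos ha', dif_pos hb'] at hab
      have := e.injective (Subtype.ext hab)
      exact congrArg Subtype.val this)
  have hback : ∀ b ∈ L, g⁻¹ b ∈ L₀ := by
    intro b hb
    obtain ⟨⟨a, ha⟩, hab⟩ := e.surjective ⟨b, hb⟩
    have h1 : g a = b := by
      rw [hgφ a ha, dif_pos ha, hab]
    rw [Equiv.Perm.inv_eq_iff_eq.mpr h1.symm]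
    exact ha
  refine ⟨R.map (MulAut.conj g).toMonoidHom, ?_, hRp.map _,
    Subgroup.card_map_of_injective (MulAut.conj g).injective⟩
  intro y hy
  obtain ⟨r, hr, rfl⟩ := Subgroup.mem_map.mp hy
  have hr' := hRL hr
  refine ⟨G.mul_mem (G.mul_mem hg hr'.1) (G.inv_mem hg), fun b hb => ?_⟩
  show (g * r * g⁻¹) b = b
  simp only [Equiv.Perm.mul_apply]
  rw [hr'.2 _ (hback b hb)]
  simp

/-- A `p`-subgroup normalising `Q`, fixing `L` pointwise, and strictly larger than `Q`. -/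
theorem exists_big (G : Subgroup (Equiv.Perm α)) (k p : ℕ) (Q : Subgroup (Equiv.Perm α))
    (F : Finset α) (hM : MaxP G k p Q F) (L : Finset α) (hLF : L ⊆ F)
    (R' : Subgroup (Equiv.Perm α)) (hR'L : R' ≤ PS G L) (hR'p : IsPGroup p ↥R')
    (hR'c : Nat.card Q < Nat.card R') :
    ∃ Rw : Subgroup (Equiv.Perm α), Rw ≤ G ∧ IsPGroup p ↥Rw ∧
      (∀ r ∈ Rw, ∀ q ∈ Q, r * q * r⁻¹ ∈ Q) ∧ (∀ r ∈ Rw, ∀ a ∈ L, r a = a) ∧
      Nat.card Q < Nat.card Rw := by
  classical
  haveI : Fact p.Prime := ⟨hM.prime⟩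
  obtain ⟨H, hH⟩ : ∃ H : Subgroup (Equiv.Perm α), H = PS G L := ⟨_, rfl⟩
  have hQH : Q ≤ H := by
    rw [hH]
    exact fun q hq => ⟨hM.le hq, fun a ha => (hM.fix a).mp (hLF ha) q hq⟩
  rw [← hH] at hR'L
  obtain ⟨P, hP⟩ := (hM.pgrp.comap_subtype (K := H)).exists_le_sylow
  obtain ⟨P', hP'⟩ := (hR'p.comap_subtype (K := H)).exists_le_sylow
  obtain ⟨Pt, hPt⟩ : ∃ Pt : Subgroup (Equiv.Perm α), Pt = (P : Subgroup ↥H).map H.subtype :=
    ⟨_, rfl⟩
  have hPtH : Pt ≤ H := by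
    rw [hPt]
    exact Subgroup.map_subtype_le _
  have hPtp : IsPGroup p ↥Pt := by
    rw [hPt]
    exact P.2.map _
  have hQPt : Q ≤ Pt := by
    intro q hq
    rw [hPt]
    exact Subgroup.mem_map.mpr ⟨⟨q, hQH hq⟩, hP (Subgroup.mem_subgroupOf.mpr hq), rfl⟩
  have hPtc : Nat.card Q < Nat.card Pt := by
    have h1 : Nat.card Pt = Nat.card (P : Subgroup ↥H) := by
      rw [hPt]
      exact Subgroup.card_map_of_injective H.subtype_injective
    have h2 : Nat.card (R'.subgroupOf H) = Nat.card R' :=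
      Nat.card_congr (Subgroup.subgroupOfEquivOfLe hR'L).toEquiv
    have h3 : Nat.card (R'.subgroupOf H) ≤ Nat.card (P' : Subgroup ↥H) :=
      Subgroup.card_le_of_le hP'
    have h4 : Nat.card (P : Subgroup ↥H) = Nat.card (P' : Subgroup ↥H) := by
      rw [Sylow.card_eq_multiplicity, Sylow.card_eq_multiplicity]
    omega
  -- normaliser condition inside `Pt`
  haveI : Group.IsNilpotent ↥Pt := hPtp.isNilpotent
  have hnc : NormalizerCondition ↥Pt := normalizerCondition_of_isNilpotent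
  have hQ0c : Nat.card (Q.subgroupOf Pt) = Nat.card Q :=
    Nat.card_congr (Subgroup.subgroupOfEquivOfLe hQPt).toEquiv
  have hlt : Q.subgroupOf Pt < ⊤ := by
    rw [lt_top_iff_ne_top]
    intro h
    have h1 : Nat.card (Q.subgroupOf Pt) = Nat.card Pt := by
      rw [h, Subgroup.card_top]
    omega
  have hN := hnc _ hlt
  obtain ⟨N₀, hN₀⟩ : ∃ N₀ : Subgroup ↥Pt, N₀ = Subgroup.normalizer (Q.subgroupOf Pt : Set ↥Pt) :=
    ⟨_, rfl⟩
  rw [← hN₀] at hN
  have hN₀c : Nat.card Q < Nat.card N₀ := by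
    by_contra hcon
    have : Q.subgroupOf Pt = N₀ :=
      Subgroup.eq_of_le_of_card_ge hN.le (by rw [hQ0c]; omega)
    exact hN.ne this
  refine ⟨N₀.map Pt.subtype, ?_, (hPtp.to_subgroup N₀).map _, ?_, ?_, ?_⟩
  · intro r hr
    obtain ⟨n, hn, rfl⟩ := Subgroup.mem_map.mp hr
    have : (n : Equiv.Perm α) ∈ PS G L := by
      rw [← hH]
      exact hPtH n.2
    exact this.1
  · intro r hr q hq
    obtain ⟨n, hn, rfl⟩ := Subgroup.mem_map.mp hr
    rw [hN₀, Subgroup.mem_normalizer_iff] at hn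
    have h1 := (hn ⟨q, hQPt hq⟩).mp (Subgroup.mem_subgroupOf.mpr hq)
    rw [Subgroup.mem_subgroupOf] at h1
    exact h1
  · intro r hr a ha
    obtain ⟨n, hn, rfl⟩ := Subgroup.mem_map.mp hr
    have : (n : Equiv.Perm α) ∈ PS G L := by
      rw [← hH]
      exact hPtH n.2
    exact this.2 a ha
  · rw [Subgroup.card_map_of_injective Pt.subtype_injective]
    exact hN₀c

/-- The subgroup of `G` normalising `Q` and fixing `A` pointwise. -/
def normFix (G Q : Subgroup (Equiv.Perm α)) (A : Finset α) : Subgroup (Equiv.Perm α) where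
  carrier := {g | g ∈ G ∧ (∀ q ∈ Q, g * q * g⁻¹ ∈ Q) ∧ (∀ q ∈ Q, g⁻¹ * q * g ∈ Q) ∧
    ∀ a ∈ A, g a = a}
  mul_mem' := by
    rintro g h ⟨hg, hg1, hg2, hg3⟩ ⟨hh, hh1, hh2, hh3⟩
    refine ⟨G.mul_mem hg hh, fun q hq => ?_, fun q hq => ?_, fun a ha => ?_⟩
    · have := hg1 _ (hh1 q hq)
      rw [mul_inv_rev]
      simpa only [mul_assoc] using this
    · have := hh2 _ (hg2 q hq)
      rw [mul_inv_rev]
      simpa only [mul_assoc] using this
    · rw [Equiv.Perm.mul_apply, hh3 a ha, hg3 a ha]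
  one_mem' := ⟨G.one_mem, fun q hq => by simpa using hq, fun q hq => by simpa using hq,
    fun _ _ => rfl⟩
  inv_mem' := by
    rintro g ⟨hg, hg1, hg2, hg3⟩
    refine ⟨G.inv_mem hg, fun q hq => ?_, fun q hq => ?_, fun a ha => ?_⟩
    · rw [inv_inv]
      exact hg2 q hq
    · rw [inv_inv]
      exact hg1 q hq
    · rw [Equiv.Perm.inv_eq_iff_eq]
      exact (hg3 a ha).symm

/-- [RED2] the non-Sylow case (orbit lengths mod `p`) -/
theorem pkgRed2 : PkgRed2.{u} := by
  intro α _ _ G k p Q F hM hHT hex A hAF hA u v hu hv huA hvA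
  classical
  obtain ⟨L₀, hL₀, R, hRL, hRp, hRc⟩ := hex
  haveI : Fact p.Prime := ⟨hM.prime⟩
  -- the big subgroups
  have hbig : ∀ w ∈ F, w ∉ A → ∃ Rw : Subgroup (Equiv.Perm α), Rw ≤ normFix G Q A ∧
      IsPGroup p ↥Rw ∧ (∀ r ∈ Rw, r w = w) ∧
      (∀ x, (∀ r ∈ Rw, r x = x) → x = w ∨ x ∈ A) := by
    intro w hw hwA
    have hLc : (insert w A).card = k := by rw [Finset.card_insert_of_notMem hwA, hA]
    have hLF : insert w A ⊆ F := by
      intro a ha
      rcases Finset.mem_insert.mp ha with h | h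
      · rw [h]
        exact hw
      · exact hAF h
    obtain ⟨R', hR'L, hR'p, hR'c⟩ := exists_conj_in_PS G k p hHT L₀ hL₀ R hRL hRp (insert w A) hLc
    obtain ⟨Rw, hRwG, hRwp, hRwn, hRwf, hRwc⟩ := exists_big G k p Q F hM (insert w A) hLF R'
      hR'L hR'p (by rw [hR'c]; exact hRc)
    refine ⟨Rw, ?_, hRwp, fun r hr => hRwf r hr w (Finset.mem_insert_self w A), ?_⟩
    · intro r hr
      refine ⟨hRwG hr, hRwn r hr, fun q hq => ?_, fun a ha => hRwf r hr a (Finset.mem_insert_of_mem ha)⟩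
      have := hRwn r⁻¹ (Rw.inv_mem hr) q hq
      rw [inv_inv] at this
      exact this
    · intro x hx
      by_contra hcon
      push Not at hcon
      have hxL : x ∉ insert w A := by
        intro h
        rcases Finset.mem_insert.mp h with h | h
        · exact hcon.1 h
        · exact hcon.2 h
      have := hM.max Rw hRwG hRwp ⟨insert x (insert w A),
        by rw [Finset.card_insert_of_notMem hxL, hLc], fun r hr a ha => by
          rcases Finset.mem_insert.mp ha with h | h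
          · rw [h]
            exact hx r hr
          · exact hRwf r hr a h⟩
      omega
  obtain ⟨Ru, hRuN, hRup, hRuu, hRufix⟩ := hbig u hu huA
  obtain ⟨Rv, hRvN, hRvp, hRvv, hRvfix⟩ := hbig v hv hvA
  obtain ⟨N, hN⟩ : ∃ N : Subgroup (Equiv.Perm α), N = normFix G Q A := ⟨_, rfl⟩
  rw [← hN] at hRuN hRvN
  have hNmem : ∀ n ∈ N, n ∈ G ∧ (∀ q ∈ Q, n * q * n⁻¹ ∈ Q) ∧ ∀ a ∈ A, n a = a := by
    intro n hn
    rw [hN] at hn
    exact ⟨hn.1, hn.2.1, hn.2.2.2⟩
  by_cases hvO : v ∈ MulAction.orbit ↥N u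
  · obtain ⟨n, hn⟩ := hvO
    have h1 := hNmem n n.2
    exact ⟨n, h1.1, preserves_of_conj_le hM n h1.2.1, h1.2.2, hn⟩
  · exfalso
    have hOA : ∀ x ∈ MulAction.orbit ↥N u, x ∉ A := by
      rintro x ⟨n, rfl⟩ hxA
      have h1 := (hNmem n n.2).2.2 _ hxA
      have h2 : (n : Equiv.Perm α) ((n : Equiv.Perm α) u) = (n : Equiv.Perm α) u := h1
      have h3 := (n : Equiv.Perm α).injective h2
      apply huA
      rw [← h3]
      exact hxA
    have hsm : ∀ (n : ↥N) (x : ↥(MulAction.orbit ↥N u)),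
        ((n • x : ↥(MulAction.orbit ↥N u)) : α) = (n : Equiv.Perm α) (x : α) := fun n x => rfl
    -- count with `Ru`
    have h1 : Nat.card ↥(MulAction.orbit ↥N u) ≡
        Nat.card (MulAction.fixedPoints ↥(Ru.subgroupOf N) ↥(MulAction.orbit ↥N u)) [MOD p] :=
      (hRup.comap_subtype (K := N)).card_modEq_card_fixedPoints ↥(MulAction.orbit ↥N u)
    have h2 : Nat.card ↥(MulAction.orbit ↥N u) ≡
        Nat.card (MulAction.fixedPoints ↥(Rv.subgroupOf N) ↥(MulAction.orbit ↥N u)) [MOD p] :=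
      (hRvp.comap_subtype (K := N)).card_modEq_card_fixedPoints ↥(MulAction.orbit ↥N u)
    have hfu : MulAction.fixedPoints ↥(Ru.subgroupOf N) ↥(MulAction.orbit ↥N u) =
        {⟨u, MulAction.mem_orbit_self u⟩} := by
      ext x
      rw [MulAction.mem_fixedPoints, Set.mem_singleton_iff]
      constructor
      · intro hx
        have h3 : ∀ r ∈ Ru, r (x : α) = x := by
          intro r hr
          have := hx ⟨⟨r, hRuN hr⟩, Subgroup.mem_subgroupOf.mpr hr⟩
          exact congrArg Subtype.val this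
        rcases hRufix _ h3 with h | h
        · exact Subtype.ext h
        · exact absurd h (hOA _ x.2)
      · rintro rfl s
        apply Subtype.ext
        exact hRuu _ (Subgroup.mem_subgroupOf.mp s.2)
    have hfv : MulAction.fixedPoints ↥(Rv.subgroupOf N) ↥(MulAction.orbit ↥N u) = ∅ := by
      ext x
      rw [MulAction.mem_fixedPoints]
      simp only [Set.mem_empty_iff_false, iff_false]
      intro hx
      have h3 : ∀ r ∈ Rv, r (x : α) = x := by
        intro r hr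
        have := hx ⟨⟨r, hRvN hr⟩, Subgroup.mem_subgroupOf.mpr hr⟩
        exact congrArg Subtype.val this
      rcases hRvfix _ h3 with h | h
      · apply hvO
        rw [← h]
        exact x.2
      · exact absurd h (hOA _ x.2)
    rw [hfu] at h1
    rw [hfv] at h2
    have h3 : Nat.card (({⟨u, MulAction.mem_orbit_self u⟩} : Set ↥(MulAction.orbit ↥N u))) = 1 := by
      simp
    have h4 : Nat.card (∅ : Set ↥(MulAction.orbit ↥N u)) = 0 := by simp
    rw [h3] at h1
    rw [h4] at h2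
    have h5 : (1 : ℕ) ≡ 0 [MOD p] := h1.symm.trans h2
    have h6 : p ∣ 1 := (Nat.modEq_zero_iff_dvd).mp h5
    exact hM.prime.one_lt.ne' (Nat.dvd_one.mp h6)

end Cfsg.Agent.Lib.Helper11.KAlt
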